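import Cfsg.Agent.H644.KGV.Defs

/-!
# The Gauss sum proof of the k(GV) theorem: orbit products and the product formula STAR
-/

set_option autoImplicit false

namespace Cfsg.Agent.H719.KGV

open Cfsg Finset Polynomial Cfsg.Agent.H644.KGV

/-! ## Roots -/

theorem mem_roots {n : ℕ} (hn : 0 < n) {b z : ℂ} : z ∈ nthRootsFinset n b ↔ z ^ n = b :=
  mem_nthRootsFinset hn b

theorem ne_zero_of_pow {n : ℕ} (hn : n ≠ 0) {z : ℂ} (h : z ^ n = 1) : z ≠ 0 := by
  rintro rfl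
  rw [zero_pow hn] at h
  exact zero_ne_one h

theorem pow_sub_one_iff {q : ℕ} (hq : 0 < q) {z : ℂ} (hz : z ≠ 0) : z ^ (q - 1) = 1 ↔ z ^ q = z := by
  obtain ⟨r, rfl⟩ : ∃ r, q = r + 1 := ⟨q - 1, by omega⟩
  rw [Nat.add_sub_cancel, pow_succ]
  constructor
  · intro h; rw [h, one_mul]
  · intro h; exact mul_right_cancel₀ hz (by rw [h, one_mul])

theorem q_sub_ne {p f : ℕ} (hp : p.Prime) (hf : 1 ≤ f) : p ^ f - 1 ≠ 0 := by
  have := Nat.one_lt_pow (by omega : f ≠ 0) hp.one_lt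
  omega

/-- every root of unity of order prime to `p` has a finite orbit -/
theorem exists_len {p n : ℕ} (hp : p.Prime) (hn : ¬ p ∣ n) {z : ℂ} (hz : z ^ n = 1) (f : ℕ) :
    ∃ e, 1 ≤ e ∧ z ^ (p ^ (f * e) - 1) = 1 := by
  have hn0 : 0 < n := Nat.pos_of_ne_zero fun h => hn (h ▸ dvd_zero p)
  refine ⟨n.totient, Nat.totient_pos.2 hn0, ?_⟩
  have hco : Nat.Coprime p n := (Nat.Prime.coprime_iff_not_dvd hp).2 hn
  have h1 : p ^ (f * n.totient) ≡ 1 [MOD n] := by
    rw [mul_comm, pow_mul]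
    simpa using (Nat.ModEq.pow_totient hco).pow f
  have h2 : n ∣ p ^ (f * n.totient) - 1 :=
    (Nat.modEq_iff_dvd' (Nat.one_le_pow _ _ hp.pos)).1 h1.symm
  obtain ⟨c, hc⟩ := h2
  rw [hc, pow_mul, hz, one_pow]

section

variable {p : ℕ} [hp : Fact p.Prime] {T : ℕ → ℕ → ZMod p}

/-! ## Frobenius invariance of the Gauss sums -/

theorem PG_pow_p (hT : GaussSys p T) {f : ℕ} (hf : 1 ≤ f) (a : ZMod p) {z : ℂ}
    (hz : z ^ (p ^ f - 1) = 1) : PG p T f a (z ^ p) = PG p T f a z := by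
  unfold PG
  congr 1
  have hN : 0 < p ^ f - 1 := Nat.pos_of_ne_zero (q_sub_ne hp.out hf)
  have hco : Nat.Coprime p (p ^ f - 1) := by
    have h1 : Nat.Coprime (p ^ f) (p ^ f - 1) := by
      have : p ^ f = (p ^ f - 1) + 1 := by omega
      conv_lhs => rw [this]
      simp
    exact Nat.Coprime.coprime_dvd_left (dvd_pow_self p (by omega)) h1
  -- periodic
  have hper : ∀ c j, T f (j + c * (p ^ f - 1)) = T f j := by
    intro c
    induction c with
    | zero => intro j; simp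
    | succ c ih =>
      intro j
      rw [Nat.succ_mul, ← add_assoc, hT.per f _ hf, ih]
  have hmod : ∀ j, T f (j % (p ^ f - 1)) = T f j := by
    intro j
    conv_rhs => rw [← Nat.mod_add_div j (p ^ f - 1), mul_comm]
    rw [hper]
  have hzmod : ∀ j, z ^ (j % (p ^ f - 1)) = z ^ j := by
    intro j
    conv_rhs => rw [← Nat.mod_add_div j (p ^ f - 1), pow_add, pow_mul, hz, one_pow, mul_one]
  refine Finset.sum_bij (fun j _ => (p * j) % (p ^ f - 1)) ?_ ?_ ?_ ?_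
  · intro j _
    exact mem_range.2 (Nat.mod_lt _ hN)
  · intro i hi j hj hij
    have h1 : p * i ≡ p * j [MOD p ^ f - 1] := hij
    have h2 : i ≡ j [MOD p ^ f - 1] := Nat.ModEq.cancel_left_of_coprime hco.symm h1
    exact Nat.ModEq.eq_of_lt_of_lt h2 (mem_range.1 hi) (mem_range.1 hj)
  · -- surjective by cardinality
    intro j hj
    have hinj : Set.InjOn (fun j => (p * j) % (p ^ f - 1)) (range (p ^ f - 1)) := by
      intro i hi j hj hij
      have h1 : p * i ≡ p * j [MOD p ^ f - 1] := hij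
      have h2 : i ≡ j [MOD p ^ f - 1] := Nat.ModEq.cancel_left_of_coprime hco.symm h1
      exact Nat.ModEq.eq_of_lt_of_lt h2 (by simpa using hi) (by simpa using hj)
    have himg : (range (p ^ f - 1)).image (fun j => (p * j) % (p ^ f - 1)) = range (p ^ f - 1) := by
      refine Finset.eq_of_subset_of_card_le ?_ ?_
      · intro x hx
        obtain ⟨y, _, rfl⟩ := Finset.mem_image.1 hx
        exact mem_range.2 (Nat.mod_lt _ hN)
      · rw [Finset.card_image_of_injOn hinj]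
    rw [← himg] at hj
    obtain ⟨y, hy, hyj⟩ := Finset.mem_image.1 hj
    exact ⟨y, hy, hyj⟩
  · intro j _
    rw [hmod, hzmod, hT.frob f j hf, ← pow_mul]

theorem pow_unit {m : ℕ} {z : ℂ} (hz : z ^ m = 1) (i : ℕ) : (z ^ i) ^ m = 1 := by
  rw [← pow_mul, mul_comm, pow_mul, hz, one_pow]

theorem PG_pow (hT : GaussSys p T) {f : ℕ} (hf : 1 ≤ f) (a : ZMod p) {z : ℂ}
    (hz : z ^ (p ^ f - 1) = 1) (i : ℕ) : PG p T f a (z ^ (p ^ i)) = PG p T f a z := by
  induction i with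
  | zero => simp
  | succ i ih => rw [pow_succ, pow_mul, PG_pow_p hT hf a (pow_unit hz _), ih]

/-! ## Orbit functions -/

/-- the value at an element of the field itself -/
theorem OrbFun.base {f : ℕ} {a : ZMod p} {F : ℂ → ℂ} (h : OrbFun p T f a F) {z : ℂ}
    (hz : z ^ (p ^ f - 1) = 1) : F z = PG p T f a z := by
  have := h 1 z le_rfl (by rwa [mul_one])
  simpa using this

omit hp in
theorem prod_range_mul {f : ℕ} (F : ℂ → ℂ) (z : ℂ) (e m : ℕ) :
    ∏ i ∈ range e, ∏ j ∈ range m, F ((z ^ (p ^ (f * m * i))) ^ (p ^ (f * j))) =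
      ∏ i ∈ range (m * e), F (z ^ (p ^ (f * i))) := by
  induction e with
  | zero => simp
  | succ e ih =>
    rw [prod_range_succ, ih, Nat.mul_succ, prod_range_add]
    congr 1
    refine prod_congr rfl fun j _ => ?_
    rw [← pow_mul, ← pow_add]
    congr 3
    ring

/-- The orbit function of the field extension of degree `m`. -/
theorem OrbFun.ext {f : ℕ} {a : ZMod p} {F : ℂ → ℂ} (h : OrbFun p T f a F) {m : ℕ}
    (hm : 1 ≤ m) : OrbFun p T (f * m) a (fun z => ∏ i ∈ range m, F (z ^ (p ^ (f * i)))) := by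
  intro e z he hz
  rw [prod_range_mul]
  rw [h (m * e) z (by nlinarith) (by rwa [← mul_assoc]), mul_assoc]

/-- orbit length of `z` -/
noncomputable def len (p f : ℕ) (z : ℂ) : ℕ := by
  classical
  exact if h : ∃ e, 1 ≤ e ∧ z ^ (p ^ (f * e)) = z then Nat.find h else 1

omit hp in
theorem len_spec {f : ℕ} {z : ℂ} {e : ℕ} (he : 1 ≤ e) (h : z ^ (p ^ (f * e)) = z) :
    1 ≤ len p f z ∧ z ^ (p ^ (f * len p f z)) = z ∧ len p f z ∣ e := by
  classical
  have hex : ∃ e, 1 ≤ e ∧ z ^ (p ^ (f * e)) = z := ⟨e, he, h⟩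
  have hl : len p f z = Nat.find hex := by
    unfold len; rw [dif_pos hex]
  have hs := Nat.find_spec hex
  rw [← hl] at hs
  refine ⟨hs.1, hs.2, ?_⟩
  -- minimality
  have hmul : ∀ c, z ^ (p ^ (f * (len p f z * c))) = z := by
    intro c
    induction c with
    | zero => simp
    | succ c ih =>
      rw [Nat.mul_succ, Nat.mul_add, pow_add, pow_mul, ih, hs.2]
  have hr : z ^ (p ^ (f * (e % len p f z))) = z := by
    have h1 : e = len p f z * (e / len p f z) + e % len p f z := (Nat.div_add_mod e _).symm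
    rw [h1, Nat.mul_add, pow_add, pow_mul, hmul] at h
    exact h
  by_contra hnd
  have hpos : 1 ≤ e % len p f z := Nat.pos_of_ne_zero fun h0 => hnd (Nat.dvd_of_mod_eq_zero h0)
  have hlt : e % len p f z < len p f z := Nat.mod_lt _ hs.1
  exact Nat.find_min hex (by rw [← hl]; exact hlt) ⟨hpos, hr⟩

theorem pow_q_inj {f : ℕ} {z w : ℂ} {n : ℕ} (hn : ¬ p ∣ n) (hz : z ^ n = 1) (hw : w ^ n = 1)
    (h : z ^ (p ^ f) = w ^ (p ^ f)) : z = w := by
  have hn0 : n ≠ 0 := fun h => hn (h ▸ dvd_zero p)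
  have hw0 : w ≠ 0 := ne_zero_of_pow hn0 hw
  have h1 : (z / w) ^ n = 1 := by rw [div_pow, hz, hw, div_one]
  have h2 : (z / w) ^ (p ^ f) = 1 := by
    rw [div_pow, h, div_self (pow_ne_zero _ hw0)]
  have hco : Nat.Coprime n (p ^ f) :=
    Nat.Coprime.pow_right _ ((Nat.Prime.coprime_iff_not_dvd hp.out).2 hn).symm
  have h3 : orderOf (z / w) ∣ 1 := by
    rw [← Nat.coprime_iff_gcd_eq_one.1 hco]
    exact Nat.dvd_gcd (orderOf_dvd_of_pow_eq_one h1) (orderOf_dvd_of_pow_eq_one h2)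
  have h4 : z / w = 1 := by
    rw [← orderOf_eq_one_iff]; exact Nat.dvd_one.1 h3
  field_simp at h4
  exact h4

theorem not_dvd_q_sub {f : ℕ} (hf : 1 ≤ f) : ¬ p ∣ p ^ f - 1 := by
  intro h
  have h1 : p ∣ p ^ f := dvd_pow_self p (by omega)
  have h2 : 1 ≤ p ^ f := Nat.one_le_pow _ _ hp.out.pos
  have h3 : p ∣ p ^ f - (p ^ f - 1) := Nat.dvd_sub h1 h
  rw [Nat.sub_sub_self h2] at h3
  exact hp.out.one_lt.ne' (Nat.dvd_one.1 h3)

/-- the orbit length is constant on orbits -/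
theorem len_pow {f : ℕ} {z : ℂ} {n : ℕ} (hn : ¬ p ∣ n) (hz : z ^ n = 1) (i : ℕ) :
    len p f (z ^ (p ^ (f * i))) = len p f z := by
  classical
  have hiff : ∀ e, (z ^ (p ^ (f * i))) ^ (p ^ (f * e)) = z ^ (p ^ (f * i)) ↔
      z ^ (p ^ (f * e)) = z := by
    intro e
    rw [← pow_mul, mul_comm (p ^ (f * i)), pow_mul]
    constructor
    · intro h
      exact pow_q_inj hn (pow_unit hz _) hz h
    · intro h; rw [h]
  unfold len
  simp only [hiff]

/-- Existence of orbit functions. -/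
theorem exists_orbFun (hT : GaussSys p T) {f : ℕ} (hf : 1 ≤ f) {a : ZMod p} (ha : a ≠ 0) :
    ∃ F, OrbFun p T f a F := by
  refine ⟨fun z => (PG p T (f * len p f z) a z) ^ ((len p f z : ℂ)⁻¹), ?_⟩
  intro e z he hz
  have hfe : 1 ≤ f * e := Nat.mul_pos hf he
  have hz0 : z ≠ 0 := ne_zero_of_pow (q_sub_ne hp.out hfe) hz
  have hze : z ^ (p ^ (f * e)) = z :=
    (pow_sub_one_iff (pow_pos hp.out.pos _) hz0).1 hz
  obtain ⟨hl1, hl2, c, hc⟩ := len_spec (p := p) (f := f) he hze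
  set L := len p f z with hL
  have hfL : 1 ≤ f * L := Nat.mul_pos hf hl1
  have hzL : z ^ (p ^ (f * L) - 1) = 1 :=
    (pow_sub_one_iff (pow_pos hp.out.pos _) hz0).2 hl2
  have hconst : ∀ i ∈ range e, (PG p T (f * len p f (z ^ (p ^ (f * i)))) a (z ^ (p ^ (f * i)))) ^
      ((len p f (z ^ (p ^ (f * i))) : ℂ)⁻¹) = (PG p T (f * L) a z) ^ ((L : ℂ)⁻¹) := by
    intro i _
    rw [len_pow (not_dvd_q_sub hfe) hz i, ← hL, PG_pow hT hfL a hzL]
  rw [prod_congr rfl hconst, prod_const, card_range, hc, pow_mul,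
    Complex.cpow_nat_inv_pow _ (by omega : L ≠ 0), ← mul_assoc, hT.lift (f * L) c a z hfL ?_ ha hzL]
  rcases Nat.eq_zero_or_pos c with h | h
  · rw [h, mul_zero] at hc; omega
  · exact h

/-! ## Products over multisets stable under the Frobenius map -/

/-- the multiset orbit -/
theorem orbit_le {f : ℕ} {n : ℕ} (hn : ¬ p ∣ n) {M : Multiset ℂ} (h1 : ∀ z ∈ M, z ^ n = 1)
    (hM : M.map (fun z => z ^ (p ^ f)) = M) {z : ℂ} (hz : z ∈ M) :
    ((Multiset.range (len p f z)).map fun i => z ^ (p ^ (f * i))) ≤ M := by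
  have hmem : ∀ i, z ^ (p ^ (f * i)) ∈ M := by
    intro i
    induction i with
    | zero => simpa using hz
    | succ i ih =>
      rw [← hM, Multiset.mem_map]
      exact ⟨_, ih, by rw [← pow_mul, ← pow_add, Nat.mul_succ]⟩
  obtain ⟨e, he, hze⟩ := exists_len hp.out hn (h1 z hz) f
  have hn0 : n ≠ 0 := fun h => hn (h ▸ dvd_zero p)
  have hz0 : z ≠ 0 := ne_zero_of_pow hn0 (h1 z hz)
  have hze' : z ^ (p ^ (f * e)) = z := (pow_sub_one_iff (pow_pos hp.out.pos _) hz0).1 hze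
  refine (Multiset.le_iff_subset ?_).2 ?_
  · refine (Multiset.nodup_range _).map_on ?_
    have key : ∀ i j, i < len p f z → j < len p f z → i < j →
        z ^ (p ^ (f * i)) ≠ z ^ (p ^ (f * j)) := by
      intro i j hi hj hij heq
      obtain ⟨d, rfl⟩ : ∃ d, j = i + d := ⟨j - i, by omega⟩
      rw [Nat.mul_add, pow_add, mul_comm (p ^ (f * i)) (p ^ (f * d)),
        pow_mul z (p ^ (f * d))] at heq
      have h2 := pow_q_inj (p := p) hn (h1 z hz) (pow_unit (h1 z hz) _) heq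
      have h3 := (len_spec (p := p) (f := f) (by omega : 1 ≤ d) h2.symm).2.2
      exact absurd (Nat.le_of_dvd (by omega) h3) (by omega)
    intro i hi j hj heq
    rw [Multiset.mem_range] at hi hj
    rcases lt_trichotomy i j with h | h | h
    · exact absurd heq (key i j hi hj h)
    · exact h
    · exact absurd heq.symm (key j i hj hi h)
  · intro w hw
    obtain ⟨i, _, rfl⟩ := Multiset.mem_map.1 hw
    exact hmem i

/-- ORB: products over a multiset of roots of unity stable under `z ↦ z ^ q` can be compared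
orbit by orbit. -/
theorem orb_prod {f n : ℕ} (hn : ¬ p ∣ n) (M : Multiset ℂ) (h1 : ∀ z ∈ M, z ^ n = 1)
    (hM : M.map (fun z => z ^ (p ^ f)) = M) (G1 G2 : ℂ → ℂ)
    (h : ∀ z ∈ M, ∀ e, 1 ≤ e → z ^ (p ^ (f * e) - 1) = 1 →
      ∏ i ∈ range e, G1 (z ^ (p ^ (f * i))) = ∏ i ∈ range e, G2 (z ^ (p ^ (f * i)))) :
    (M.map G1).prod = (M.map G2).prod := by
  induction hc : M.card using Nat.strong_induction_on generalizing M with
  | _ c ih =>
    subst hc
    rcases Multiset.empty_or_exists_mem M with rfl | ⟨z, hz⟩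
    · simp
    obtain ⟨M', hM'⟩ := Multiset.le_iff_exists_add.1 (orbit_le hn h1 hM hz)
    obtain ⟨e, he, hze⟩ := exists_len hp.out hn (h1 z hz) f
    have hn0 : n ≠ 0 := fun h => hn (h ▸ dvd_zero p)
    have hz0 : z ≠ 0 := ne_zero_of_pow hn0 (h1 z hz)
    have hze' : z ^ (p ^ (f * e)) = z := (pow_sub_one_iff (pow_pos hp.out.pos _) hz0).1 hze
    obtain ⟨hl1, hl2, -⟩ := len_spec (p := p) (f := f) he hze'
    set L := len p f z with hL
    set O := (Multiset.range L).map fun i => z ^ (p ^ (f * i)) with hO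
    -- the orbit is stable
    have hOs : O.map (fun z => z ^ (p ^ f)) = O := by
      rw [hO, Multiset.map_map]
      obtain ⟨L', hL'⟩ : ∃ L', L = L' + 1 := ⟨L - 1, by omega⟩
      have e1 : (Multiset.range L).map ((fun z => z ^ (p ^ f)) ∘ fun i => z ^ (p ^ (f * i))) =
          (Multiset.range L).map (fun i => z ^ (p ^ (f * (i + 1)))) := by
        refine Multiset.map_congr rfl fun i _ => ?_
        simp only [Function.comp]
        rw [← pow_mul, ← pow_add, Nat.mul_succ]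
      rw [e1, hL']
      have e2 : (Multiset.range (L' + 1)).map (fun i => z ^ (p ^ (f * (i + 1)))) =
          z ^ (p ^ (f * (L' + 1))) ::ₘ (Multiset.range L').map (fun i => z ^ (p ^ (f * (i + 1)))) := by
        rw [Multiset.range_succ, Multiset.map_cons]
      have e3 : (Multiset.range (L' + 1)).map (fun i => z ^ (p ^ (f * i))) =
          z ^ (p ^ (f * 0)) ::ₘ (Multiset.range L').map (fun i => z ^ (p ^ (f * (i + 1)))) := by
        have : Multiset.range (L' + 1) = 0 ::ₘ (Multiset.range L').map (· + 1) := by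
          rw [← Multiset.coe_range, ← Multiset.coe_range, List.range_succ_eq_map]
          simp
        rw [this, Multiset.map_cons, Multiset.map_map]
        rfl
      rw [e2, e3, ← hL', hl2]
      simp
    have hM's : M'.map (fun z => z ^ (p ^ f)) = M' := by
      have := hM
      rw [hM', Multiset.map_add, hOs] at this
      exact add_left_cancel this
    have hlt : M'.card < M.card := by
      rw [hM', Multiset.card_add, hO, Multiset.card_map, Multiset.card_range]; omega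
    have hsub : ∀ w ∈ M', w ∈ M := fun w hw => by rw [hM']; exact Multiset.mem_add.2 (Or.inr hw)
    have hih := ih _ hlt M' (fun w hw => h1 w (hsub w hw)) hM's
      (fun w hw => h w (hsub w hw)) rfl
    have hLz : z ^ (p ^ (f * L) - 1) = 1 :=
      (pow_sub_one_iff (pow_pos hp.out.pos _) hz0).2 hl2
    have hz' := h z hz L hl1 hLz
    rw [hM', Multiset.map_add, Multiset.map_add, Multiset.prod_add, Multiset.prod_add, hih]
    congr 1
    rw [hO, Multiset.map_map, Multiset.map_map]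
    exact hz'

/-! ## Products over roots -/

omit hp in
theorem prod_roots_mul {r : ℕ} (hr : 0 < r) {β : ℂ} (hβ : β ≠ 0) (F : ℂ → ℂ) :
    ∏ z ∈ nthRootsFinset r (β ^ r), F z = ∏ w ∈ nthRootsFinset r (1 : ℂ), F (β * w) := by
  symm
  refine Finset.prod_bij (fun w _ => β * w) ?_ ?_ ?_ ?_
  · intro w hw
    rw [mem_roots hr] at hw ⊢
    rw [mul_pow, hw, mul_one]
  · intro w _ w' _ h
    exact mul_left_cancel₀ hβ h
  · intro z hz
    rw [mem_roots hr] at hz
    refine ⟨z / β, ?_, by field_simp⟩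
    rw [mem_roots hr, div_pow, hz, div_self (pow_ne_zero _ hβ)]
  · intro w _; rfl

theorem prod_roots_one_pow {r : ℕ} (hr : ¬ p ∣ r) (j : ℕ) (F : ℂ → ℂ) :
    ∏ w ∈ nthRootsFinset r (1 : ℂ), F (w ^ (p ^ j)) = ∏ w ∈ nthRootsFinset r (1 : ℂ), F w := by
  have hr0 : 0 < r := Nat.pos_of_ne_zero fun h => hr (h ▸ dvd_zero p)
  have hinj : Set.InjOn (fun w : ℂ => w ^ (p ^ j)) (nthRootsFinset r (1 : ℂ)) := by
    intro z hz w hw h
    have hz' := (mem_roots hr0).1 (Finset.mem_coe.1 hz)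
    have hw' := (mem_roots hr0).1 (Finset.mem_coe.1 hw)
    exact pow_q_inj (p := p) hr hz' hw' h
  have himg : (nthRootsFinset r (1 : ℂ)).image (fun w : ℂ => w ^ (p ^ j)) =
      nthRootsFinset r (1 : ℂ) := by
    refine Finset.eq_of_subset_of_card_le ?_ ?_
    · intro x hx
      obtain ⟨y, hy, rfl⟩ := Finset.mem_image.1 hx
      rw [mem_roots hr0] at hy ⊢
      exact pow_unit hy _
    · rw [Finset.card_image_of_injOn hinj]
  conv_rhs => rw [← himg]
  rw [Finset.prod_image hinj]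

theorem prod_roots_pow {r : ℕ} (hr : ¬ p ∣ r) (j : ℕ) {b : ℂ} (hb : b ≠ 0) (F : ℂ → ℂ) :
    ∏ z ∈ nthRootsFinset r (b ^ (p ^ j)), F z =
      ∏ z ∈ nthRootsFinset r b, F (z ^ (p ^ j)) := by
  have hr0 : 0 < r := Nat.pos_of_ne_zero fun h => hr (h ▸ dvd_zero p)
  obtain ⟨β, rfl⟩ := IsAlgClosed.exists_pow_nat_eq b hr0
  have hβ : β ≠ 0 := by
    rintro rfl
    exact hb (zero_pow (by omega))
  rw [← pow_mul, mul_comm r, pow_mul, prod_roots_mul hr0 (pow_ne_zero _ hβ), prod_roots_mul hr0 hβ]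
  simp only [mul_pow]
  exact (prod_roots_one_pow hr j (fun w => F (β ^ (p ^ j) * w))).symm

omit hp in
theorem prod_roots_comp {r s : ℕ} (hr : 0 < r) (hs : 0 < s) (b : ℂ) (F : ℂ → ℂ) :
    ∏ z ∈ nthRootsFinset (r * s) b, F z =
      ∏ y ∈ nthRootsFinset s b, ∏ z ∈ nthRootsFinset r y, F z := by
  classical
  rw [← Finset.prod_fiberwise_of_maps_to (s := nthRootsFinset (r * s) b) (t := nthRootsFinset s b)
    (g := fun z => z ^ r)]
  · refine Finset.prod_congr rfl fun y hy => Finset.prod_congr ?_ fun _ _ => rfl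
    ext z
    rw [Finset.mem_filter, mem_roots hr, mem_roots (Nat.mul_pos hr hs)]
    rw [mem_roots hs] at hy
    constructor
    · exact fun h => h.2
    · intro h
      exact ⟨by rw [pow_mul, h, hy], h⟩
  · intro z hz
    rw [mem_roots (Nat.mul_pos hr hs)] at hz
    rw [mem_roots hs, ← pow_mul, hz]

theorem prod_orbit_roots {r f : ℕ} (hr : ¬ p ∣ r) {b : ℂ} (hb : b ≠ 0) (m : ℕ) (F : ℂ → ℂ) :
    ∏ i ∈ range m, ∏ z ∈ nthRootsFinset r (b ^ (p ^ (f * i))), F z =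
      ∏ z ∈ nthRootsFinset r b, ∏ i ∈ range m, F (z ^ (p ^ (f * i))) := by
  rw [Finset.prod_comm]
  exact Finset.prod_congr rfl fun i _ => prod_roots_pow hr _ hb F

theorem prod_one_ext {r f : ℕ} (hr : ¬ p ∣ r) (m : ℕ) (F : ℂ → ℂ) :
    ∏ z ∈ nthRootsFinset r (1 : ℂ), ∏ i ∈ range m, F (z ^ (p ^ (f * i))) =
      (∏ z ∈ nthRootsFinset r (1 : ℂ), F z) ^ m := by
  rw [Finset.prod_comm, Finset.prod_congr rfl fun i _ => prod_roots_one_pow hr (f * i) F,
    prod_const, card_range]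

/-! ## The product formula -/

theorem natCast_ne_zero {f ℓ : ℕ} (hf : 1 ≤ f) (hd : ℓ ∣ p ^ f - 1) : (ℓ : ZMod p) ≠ 0 := by
  intro h
  exact not_dvd_q_sub hf (((ZMod.natCast_eq_zero_iff _ _).1 h).trans hd)

theorem not_dvd_of_dvd {f ℓ : ℕ} (hf : 1 ≤ f) (hd : ℓ ∣ p ^ f - 1) : ¬ p ∣ ℓ :=
  fun h => not_dvd_q_sub hf (h.trans hd)

/-- the `ℓ`-th roots of `b` when there is none in the field with `q` elements -/
theorem roots_nonsplit {f ℓ : ℕ} (hf : 1 ≤ f) (hℓ : ℓ.Prime) (hd : ℓ ∣ p ^ f - 1) {z : ℂ}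
    (hz : (z ^ ℓ) ^ (p ^ f - 1) = 1) (hz1 : z ^ (p ^ f - 1) ≠ 1) (G : ℂ → ℂ) :
    (∏ y ∈ nthRootsFinset ℓ (z ^ ℓ), G y = ∏ i ∈ range ℓ, G (z ^ (p ^ (f * i)))) ∧
      z ^ (p ^ (f * ℓ) - 1) = 1 := by
  have hz0 : z ≠ 0 := by
    rintro rfl
    rw [zero_pow hℓ.ne_zero, zero_pow (q_sub_ne hp.out hf)] at hz
    exact zero_ne_one hz
  set u := z ^ (p ^ f - 1) with hu
  have hul : u ^ ℓ = 1 := by
    rw [hu, ← pow_mul, mul_comm, pow_mul]; exact hz
  have huq : u ^ (p ^ f) = u := by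
    have h1 : u ^ (p ^ f - 1) = 1 := by
      obtain ⟨c, hc⟩ := hd
      rw [hc, pow_mul, hul, one_pow]
    exact (pow_sub_one_iff (pow_pos hp.out.pos _) (pow_ne_zero _ hz0)).1 h1
  have hzq : z ^ (p ^ f) = z * u := by
    rw [hu, ← pow_succ']
    congr 1
    have := Nat.one_le_pow f p hp.out.pos
    omega
  have hpow : ∀ i, z ^ (p ^ (f * i)) = z * u ^ i := by
    intro i
    induction i with
    | zero => simp
    | succ i ih =>
      rw [Nat.mul_succ, pow_add, pow_mul, ih, mul_pow, hzq, ← pow_mul, mul_comm i, pow_mul, huq,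
        pow_succ']
      ring
  have hprim : IsPrimitiveRoot u ℓ := by
    haveI := Fact.mk hℓ
    have h1 : orderOf u = ℓ := orderOf_eq_prime hul hz1
    rw [← h1]; exact IsPrimitiveRoot.orderOf u
  constructor
  · rw [prod_roots_mul hℓ.pos hz0]
    have himg : nthRootsFinset ℓ (1 : ℂ) = (range ℓ).image (fun i => u ^ i) := by
      symm
      refine Finset.eq_of_subset_of_card_le ?_ ?_
      · intro x hx
        obtain ⟨i, _, rfl⟩ := Finset.mem_image.1 hx
        rw [mem_roots hℓ.pos, ← pow_mul, mul_comm, pow_mul, hul, one_pow]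
      · rw [hprim.card_nthRootsFinset, Finset.card_image_of_injOn, card_range]
        intro i hi j hj hij
        exact hprim.pow_inj (by simpa using hi) (by simpa using hj) hij
    rw [himg, Finset.prod_image]
    · exact Finset.prod_congr rfl fun i _ => by rw [hpow]
    · intro i hi j hj hij
      exact hprim.pow_inj (by simpa using hi) (by simpa using hj) hij
  · rw [pow_sub_one_iff (pow_pos hp.out.pos _) hz0, hpow, hul, mul_one]

/-- the induction step of the product formula -/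
theorem star_step (hT : GaussSys p T) {ℓ : ℕ} (hℓ : ℓ.Prime) {a : ZMod p} (ha : a ≠ 0) (k : ℕ)
    (ih : ∀ {f : ℕ}, 1 ≤ f → ℓ ∣ p ^ f - 1 → ∀ {F : ℂ → ℂ}, OrbFun p T f a F → ∀ {b : ℂ},
      b ^ (p ^ f - 1) = 1 → ∏ z ∈ nthRootsFinset (ℓ ^ k) b, F z =
        PG p T f ((ℓ : ZMod p) ^ k * a) b * ∏ z ∈ nthRootsFinset (ℓ ^ k) (1 : ℂ), F z)
    {f : ℕ} (hf : 1 ≤ f) (hd : ℓ ∣ p ^ f - 1) {F : ℂ → ℂ} (hF : OrbFun p T f a F) {b : ℂ}
    (hb : b ^ (p ^ f - 1) = 1) :
    ∏ z ∈ nthRootsFinset (ℓ ^ (k + 1)) b, F z =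
        PG p T f ((ℓ : ZMod p) ^ (k + 1) * a) b *
          (cG p T f ℓ ((ℓ : ZMod p) ^ k * a) *
            (∏ z ∈ nthRootsFinset (ℓ ^ k) (1 : ℂ), F z) ^ ℓ) := by
  have hl0 : (ℓ : ZMod p) ≠ 0 := natCast_ne_zero hf hd
  have hpl : ¬ p ∣ ℓ := not_dvd_of_dvd hf hd
  have hpk : ¬ p ∣ ℓ ^ k := fun h => hpl (hp.out.dvd_of_dvd_pow h)
  have hlk : 0 < ℓ ^ k := pow_pos hℓ.pos _
  have ha' : (ℓ : ZMod p) ^ k * a ≠ 0 := mul_ne_zero (pow_ne_zero _ hl0) ha
  have hae : (ℓ : ZMod p) ^ (k + 1) * a = (ℓ : ZMod p) * ((ℓ : ZMod p) ^ k * a) := by ring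
  rw [pow_succ ℓ k, prod_roots_comp hlk hℓ.pos]
  have hb0 : b ≠ 0 := ne_zero_of_pow (q_sub_ne hp.out hf) hb
  obtain ⟨z, rfl⟩ := IsAlgClosed.exists_pow_nat_eq b hℓ.pos
  have hz0 : z ≠ 0 := by
    rintro rfl
    exact hb0 (zero_pow hℓ.ne_zero)
  by_cases hz1 : z ^ (p ^ f - 1) = 1
  · -- split
    rw [prod_roots_mul hℓ.pos hz0]
    have hw : ∀ w ∈ nthRootsFinset ℓ (1 : ℂ), (z * w) ^ (p ^ f - 1) = 1 := by
      intro w hw
      rw [mem_roots hℓ.pos] at hw
      obtain ⟨c, hc⟩ := hd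
      rw [mul_pow, hz1, one_mul, hc, pow_mul, hw, one_pow]
    rw [Finset.prod_congr rfl fun w hw' => ih hf hd hF (hw w hw'), Finset.prod_mul_distrib,
      hT.split f ℓ _ z hf hℓ hd ha' hz1, prod_const, hae, mul_assoc]
    congr 3
    obtain ⟨c, hc⟩ := hd
    have hprim : ∃ ζ : ℂ, IsPrimitiveRoot ζ ℓ := ⟨_, Complex.isPrimitiveRoot_exp ℓ hℓ.ne_zero⟩
    obtain ⟨ζ, hζ⟩ := hprim
    exact hζ.card_nthRootsFinset
  · -- nonsplit
    obtain ⟨h1, h2⟩ := roots_nonsplit hf hℓ hd hb hz1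
      (fun y => ∏ z ∈ nthRootsFinset (ℓ ^ k) y, F z)
    have hfl : 1 ≤ f * ℓ := Nat.mul_pos hf hℓ.pos
    have hdl : ℓ ∣ p ^ (f * ℓ) - 1 := by
      refine hd.trans ?_
      rw [pow_mul]
      simpa using Nat.sub_dvd_pow_sub_pow (p ^ f) 1 ℓ
    rw [h1, prod_orbit_roots hpk hz0, ih hfl hdl (OrbFun.ext hF hℓ.pos) h2, prod_one_ext hpk,
      hT.nonsplit f ℓ _ z hf hℓ hd ha' hb hz1, hae, mul_assoc]

/-- STAR: the product formula for `ℓ ^ k`. -/
theorem star (hT : GaussSys p T) {ℓ : ℕ} (hℓ : ℓ.Prime) {a : ZMod p} (ha : a ≠ 0) (k : ℕ) :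
    ∀ {f : ℕ}, 1 ≤ f → ℓ ∣ p ^ f - 1 → ∀ {F : ℂ → ℂ}, OrbFun p T f a F → ∀ {b : ℂ},
      b ^ (p ^ f - 1) = 1 → ∏ z ∈ nthRootsFinset (ℓ ^ k) b, F z =
        PG p T f ((ℓ : ZMod p) ^ k * a) b * ∏ z ∈ nthRootsFinset (ℓ ^ k) (1 : ℂ), F z := by
  induction k with
  | zero =>
    intro f hf hd F hF b hb
    have hr : ∀ b : ℂ, nthRootsFinset (ℓ ^ 0) b = {b} := by
      intro b
      ext z
      rw [pow_zero, mem_roots one_pos, pow_one, Finset.mem_singleton]
    rw [hr, hr, prod_singleton, prod_singleton, OrbFun.base hF hb,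
      OrbFun.base hF (one_pow _), hT.one f a hf ha, mul_one, pow_zero, one_mul]
  | succ k ih =>
    intro f hf hd F hF b hb
    have hl0 : (ℓ : ZMod p) ≠ 0 := natCast_ne_zero hf hd
    rw [star_step hT hℓ ha k ih hf hd hF hb, star_step hT hℓ ha k ih hf hd hF (one_pow _),
      hT.one f _ hf (mul_ne_zero (pow_ne_zero _ hl0) ha), one_mul]

/-- The product of `F` over the `ℓ ^ (k + 1)`-th roots of unity. -/
theorem star_const (hT : GaussSys p T) {ℓ : ℕ} (hℓ : ℓ.Prime) {a : ZMod p} (ha : a ≠ 0) (k : ℕ)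
    {f : ℕ} (hf : 1 ≤ f) (hd : ℓ ∣ p ^ f - 1) {F : ℂ → ℂ} (hF : OrbFun p T f a F) :
    ∏ z ∈ nthRootsFinset (ℓ ^ (k + 1)) (1 : ℂ), F z =
      cG p T f ℓ ((ℓ : ZMod p) ^ k * a) * (∏ z ∈ nthRootsFinset (ℓ ^ k) (1 : ℂ), F z) ^ ℓ := by
  have hl0 : (ℓ : ZMod p) ≠ 0 := natCast_ne_zero hf hd
  rw [star_step hT hℓ ha k (star hT hℓ ha k) hf hd hF (one_pow _),
    hT.one f _ hf (mul_ne_zero (pow_ne_zero _ hl0) ha), one_mul]

/-- the case `k = 1` -/
theorem star_one (hT : GaussSys p T) {ℓ : ℕ} (hℓ : ℓ.Prime) {a : ZMod p} (ha : a ≠ 0)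
    {f : ℕ} (hf : 1 ≤ f) (hd : ℓ ∣ p ^ f - 1) {F : ℂ → ℂ} (hF : OrbFun p T f a F) {b : ℂ}
    (hb : b ^ (p ^ f - 1) = 1) :
    ∏ z ∈ nthRootsFinset ℓ b, F z = PG p T f ((ℓ : ZMod p) * a) b * cG p T f ℓ a := by
  have h := star_step hT hℓ ha 0 (star hT hℓ ha 0) hf hd hF hb
  have hr : nthRootsFinset (ℓ ^ 0) (1 : ℂ) = {1} := by
    ext z
    rw [pow_zero, mem_roots one_pos, pow_one, Finset.mem_singleton]
  rw [hr, prod_singleton, OrbFun.base hF (one_pow _), hT.one f a hf ha, one_pow, mul_one] at h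
  simpa using h

/-- STAR for an orbit: `b` in the field of degree `m` over the field with `p ^ f` elements. -/
theorem star_orbit (hT : GaussSys p T) {ℓ : ℕ} (hℓ : ℓ.Prime) {a : ZMod p} (ha : a ≠ 0) (k : ℕ)
    {f m : ℕ} (hf : 1 ≤ f) (hm : 1 ≤ m) (hd : ℓ ∣ p ^ f - 1) {F : ℂ → ℂ} (hF : OrbFun p T f a F)
    {b : ℂ} (hb : b ^ (p ^ (f * m) - 1) = 1) :
    ∏ i ∈ range m, ∏ z ∈ nthRootsFinset (ℓ ^ k) (b ^ (p ^ (f * i))), F z =
      PG p T (f * m) ((ℓ : ZMod p) ^ k * a) b *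
        (∏ z ∈ nthRootsFinset (ℓ ^ k) (1 : ℂ), F z) ^ m := by
  have hpl : ¬ p ∣ ℓ := not_dvd_of_dvd hf hd
  have hpk : ¬ p ∣ ℓ ^ k := fun h => hpl (hp.out.dvd_of_dvd_pow h)
  have hfm : 1 ≤ f * m := Nat.mul_pos hf hm
  have hdm : ℓ ∣ p ^ (f * m) - 1 := by
    refine hd.trans ?_
    rw [pow_mul]
    simpa using Nat.sub_dvd_pow_sub_pow (p ^ f) 1 m
  have hb0 : b ≠ 0 := ne_zero_of_pow (q_sub_ne hp.out hfm) hb
  rw [prod_orbit_roots hpk hb0, star hT hℓ ha k hfm hdm (OrbFun.ext hF hm) hb, prod_one_ext hpk]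

/-- STAR for a Frobenius stable multiset (`k = 1`), in the form used for the inductive step. -/
theorem star_multiset (hT : GaussSys p T) {ℓ : ℕ} (hℓ : ℓ.Prime) {a : ZMod p} (ha : a ≠ 0)
    {f : ℕ} (hf : 1 ≤ f) (hd : ℓ ∣ p ^ f - 1) {F F' : ℂ → ℂ} (hF : OrbFun p T f a F)
    (hF' : OrbFun p T f ((ℓ : ZMod p) * a) F') {n : ℕ} (hn : ¬ p ∣ n) (M : Multiset ℂ)
    (h1 : ∀ z ∈ M, z ^ n = 1) (hM : M.map (fun z => z ^ (p ^ f)) = M) :
    (M.map fun w => ∏ z ∈ nthRootsFinset ℓ w, F z).prod =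
      (M.map F').prod * cG p T f ℓ a ^ M.card := by
  have key : (M.map fun w => ∏ z ∈ nthRootsFinset ℓ w, F z).prod =
      (M.map fun w => F' w * cG p T f ℓ a).prod := by
    refine orb_prod hn M h1 hM _ _ ?_
    intro z hz e he hze
    have h2 := star_orbit hT hℓ ha 1 hf he hd hF hze
    have h3 := star_one hT hℓ ha hf hd hF (one_pow (p ^ f - 1) : (1 : ℂ) ^ (p ^ f - 1) = 1)
    rw [pow_one, pow_one, h3, hT.one f _ hf (mul_ne_zero (natCast_ne_zero hf hd) ha), one_mul] at h2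
    rw [h2, Finset.prod_mul_distrib, hF' e z he hze, prod_const, card_range]
  rw [key, Multiset.prod_map_mul]
  simp

/-- the same with the multiset of all the `ℓ`-th roots -/
theorem star_bind (hT : GaussSys p T) {ℓ : ℕ} (hℓ : ℓ.Prime) {a : ZMod p} (ha : a ≠ 0)
    {f : ℕ} (hf : 1 ≤ f) (hd : ℓ ∣ p ^ f - 1) {F F' : ℂ → ℂ} (hF : OrbFun p T f a F)
    (hF' : OrbFun p T f ((ℓ : ZMod p) * a) F') {n : ℕ} (hn : ¬ p ∣ n) (M : Multiset ℂ)
    (h1 : ∀ z ∈ M, z ^ n = 1) (hM : M.map (fun z => z ^ (p ^ f)) = M) :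
    ((M.bind fun w => (nthRootsFinset ℓ w).val).map F).prod =
      (M.map F').prod * cG p T f ℓ a ^ M.card := by
  rw [← star_multiset hT hℓ ha hf hd hF hF' hn M h1 hM, Multiset.map_bind, Multiset.prod_bind]
  rfl

end

end Cfsg.Agent.H719.KGV
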